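import Mathlib

/-!
Commuting `2 × 2` matrices.
-/

set_option autoImplicit false

namespace Cfsg.Agent.Lin

variable {F : Type*} [Field F]

theorem mem_range_scalar_two_iff {y : Matrix (Fin 2) (Fin 2) F} :
    y ∈ Set.range (Matrix.scalar (Fin 2)) ↔ y 0 1 = 0 ∧ y 1 0 = 0 ∧ y 0 0 = y 1 1 := by
  constructor
  · rintro ⟨r, rfl⟩
    simp
  · rintro ⟨h1, h2, h3⟩
    refine ⟨y 0 0, ?_⟩
    ext i j
    fin_cases i <;> fin_cases j <;> simp [h1, h2, h3]

/-- A matrix commuting with a non-scalar `2 × 2` matrix `y` is a polynomial in `y`. -/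
theorem exists_of_commute_two {y a : Matrix (Fin 2) (Fin 2) F}
    (hy : y ∉ Set.range (Matrix.scalar (Fin 2))) (h : Commute a y) :
    ∃ k l : F, a = k • (1 : Matrix (Fin 2) (Fin 2) F) + l • y := by
  have h00 := congrFun (congrFun h.eq 0) 0
  have h01 := congrFun (congrFun h.eq 0) 1
  have h10 := congrFun (congrFun h.eq 1) 0
  simp only [Matrix.mul_apply, Fin.sum_univ_two] at h00 h01 h10
  obtain ⟨l, h1, h2, h3⟩ : ∃ l : F, a 0 1 = l * y 0 1 ∧ a 1 0 = l * y 1 0 ∧
      a 0 0 - a 1 1 = l * (y 0 0 - y 1 1) := by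
    by_cases e1 : y 0 1 = 0
    · by_cases e2 : y 1 0 = 0
      · have e3 : y 0 0 - y 1 1 ≠ 0 := fun e3 =>
          hy (mem_range_scalar_two_iff.2 ⟨e1, e2, sub_eq_zero.1 e3⟩)
        refine ⟨(a 0 0 - a 1 1) / (y 0 0 - y 1 1), ?_, ?_, ?_⟩ <;> field_simp
        · linear_combination -h01
        · linear_combination h10
      · refine ⟨a 1 0 / y 1 0, ?_, ?_, ?_⟩ <;> field_simp
        · linear_combination h00
        · linear_combination -h10
    · refine ⟨a 0 1 / y 0 1, ?_, ?_, ?_⟩ <;> field_simp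
      · linear_combination -h00
      · linear_combination h01
  refine ⟨a 1 1 - l * y 1 1, l, ?_⟩
  ext i j
  fin_cases i <;> fin_cases j <;> simp [h1, h2]
  linear_combination h3

/-- The centralizer of a non-scalar `2 × 2` matrix is commutative. -/
theorem commute_of_commute_two {y a b : Matrix (Fin 2) (Fin 2) F}
    (hy : y ∉ Set.range (Matrix.scalar (Fin 2))) (ha : Commute a y) (hb : Commute b y) :
    Commute a b := by
  obtain ⟨k, l, rfl⟩ := exists_of_commute_two hy ha
  exact ((Commute.one_left b).smul_left k).add_left (hb.symm.smul_left l)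

end Cfsg.Agent.Lin
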