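import Mathlib
import Cfsg.Prelude.Def_CaseTheorems
import Cfsg.Agent.Lib.Lin.Two

/-!
Orders of special linear groups; centralizers in `SL(2, F)`.
-/

set_option autoImplicit false

namespace Cfsg.Agent.Lin

open Matrix Subgroup
open scoped MatrixGroups

variable {F : Type*} [Field F]

theorem card_SL_mul (n : Type*) [Fintype n] [DecidableEq n] [Nonempty n] [Finite F] :
    Nat.card (SpecialLinearGroup n F) * (Nat.card F - 1) = Nat.card (GL n F) := by
  rw [← (GeneralLinearGroup.det (n := n) (R := F)).ker.card_mul_index, index_ker,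
    MonoidHom.range_eq_top.2 GeneralLinearGroup.det_surjective, card_top, Nat.card_units]
  congr 1
  refine Nat.card_eq_of_bijective (fun g => ⟨SpecialLinearGroup.toGL g, Units.ext g.2⟩)
    ⟨fun g h e => SpecialLinearGroup.toGL_injective (congrArg Subtype.val e), fun g => ?_⟩
  exact ⟨⟨g.1, congrArg Units.val g.2⟩, Subtype.ext (Units.ext rfl)⟩

theorem card_SL2 [Fintype F] :
    Nat.card SL(2, F) = Fintype.card F * ((Fintype.card F - 1) * (Fintype.card F + 1)) := by
  have h := card_SL_mul (F := F) (Fin 2)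
  rw [card_GL_field, Nat.card_eq_fintype_card (α := F)] at h
  obtain ⟨k, hk⟩ := Nat.exists_eq_add_of_le' (Fintype.one_lt_card (α := F))
  simp only [Fin.prod_univ_two, hk, Fin.val_zero, Fin.val_one, pow_zero, pow_one] at h ⊢
  rw [show (k + 2) ^ 2 - 1 = (k + 1) * (k + 3) from Nat.sub_eq_of_eq_add (by ring),
    show (k + 2) ^ 2 - (k + 2) = (k + 2) * (k + 1) from Nat.sub_eq_of_eq_add (by ring)] at h
  exact Nat.eq_of_mul_eq_mul_right k.succ_pos (h.trans (by simp; ring))

theorem card_conic [Fintype F] (h2 : (2 : F) ≠ 0) {D : F} (hD : D ≠ 0) :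
    Nat.card {v : F × F // v.1 ^ 2 - D * v.2 ^ 2 = 1} = Fintype.card F - 1 ∨
      Nat.card {v : F × F // v.1 ^ 2 - D * v.2 ^ 2 = 1} = Fintype.card F + 1 := by
  classical
  have h1 : Nat.card (Option {m : F // ¬ D * m ^ 2 = 1}) =
      Nat.card {v : F × F // v.1 ^ 2 - D * v.2 ^ 2 = 1} := by
    refine Nat.card_eq_of_bijective (fun m => m.elim ⟨(-1, 0), by simp⟩ fun m =>
      ⟨((1 + D * m.1 ^ 2) / (1 - D * m.1 ^ 2), 2 * m.1 / (1 - D * m.1 ^ 2)), by
        have := sub_ne_zero.2 (Ne.symm m.2)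
        field_simp
        ring⟩) ⟨?_, ?_⟩
    · rintro (_ | ⟨m, hm⟩) (_ | ⟨l, hl⟩) h <;>
        simp only [Option.elim, Subtype.mk.injEq, Prod.mk.injEq] at h
      · rfl
      · have := sub_ne_zero.2 (Ne.symm hl)
        field_simp at h
        exact (h2 (by linear_combination -h.1)).elim
      · have := sub_ne_zero.2 (Ne.symm hm)
        field_simp at h
        exact (h2 (by linear_combination h.1)).elim
      · have := sub_ne_zero.2 (Ne.symm hl)
        have := sub_ne_zero.2 (Ne.symm hm)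
        field_simp at h
        have h3 : D * m ^ 2 = D * l ^ 2 := mul_left_cancel₀ h2 (by linear_combination h.1)
        obtain rfl : m = l := mul_right_cancel₀ this (by linear_combination h.2 - m * h3)
        rfl
    · rintro ⟨⟨X, Y⟩, h⟩
      by_cases hX : X + 1 = 0
      · obtain rfl := eq_neg_of_add_eq_zero_left hX
        obtain rfl : Y = 0 := by simpa [hD] using h
        exact ⟨none, rfl⟩
      have h3 : 1 - D * (Y / (X + 1)) ^ 2 = 2 / (X + 1) := by
        field_simp
        linear_combination h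
      refine ⟨some ⟨Y / (X + 1), fun h4 => div_ne_zero h2 hX (by rw [← h3, h4, sub_self])⟩,
        Subtype.ext (Prod.ext ?_ ?_)⟩ <;> simp only [Option.elim, h3] <;> field_simp
      linear_combination -h
  rw [← h1, Nat.card_eq_fintype_card, Fintype.card_option, Fintype.card_subtype_compl]
  by_cases h : ∃ m, D * m ^ 2 = 1
  · obtain ⟨m, hm⟩ := h
    have hm0 : m ≠ -m := fun h => by
      obtain rfl : m = 0 := mul_left_cancel₀ h2 (by linear_combination h)
      simp at hm
    have := Fintype.one_lt_card (α := F)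
    rw [Fintype.card_of_subtype {m, -m} fun l => by
      rw [← hm, mul_right_inj' hD, sq_eq_sq_iff_eq_or_eq_neg]; simp, Finset.card_pair hm0]
    omega
  · rw [Fintype.card_of_subtype ∅ fun l => by simpa using fun h' => h ⟨l, h'⟩]
    simp

namespace SL2

variable {a b x y : SL(2, F)}

theorem mem_center_iff_scalar : x ∈ center SL(2, F) ↔ x.1 ∈ Set.range (scalar (Fin 2)) := by
  refine ⟨fun h => ?_, fun ⟨r, hr⟩ => mem_center_iff.2 fun g => Subtype.ext ?_⟩
  · obtain ⟨r, -, hr⟩ := Matrix.SpecialLinearGroup.mem_center_iff.1 h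
    exact ⟨r, hr⟩
  · simpa [← hr] using (scalar_commute r (fun _ => Commute.all _ _) g.1).eq.symm

theorem sq_eq_one_of_mem_center (h : x ∈ center SL(2, F)) : x ^ 2 = 1 := by
  obtain ⟨r, h1, hr⟩ := Matrix.SpecialLinearGroup.mem_center_iff.1 h
  refine Subtype.ext ?_
  rw [Matrix.SpecialLinearGroup.coe_pow, ← hr, ← map_pow, ← Fintype.card_fin 2, h1, map_one]
  rfl

theorem card_center_le : Nat.card (center SL(2, F)) ≤ 2 :=
  (Nat.card_congr (Matrix.SpecialLinearGroup.center_equiv_rootsOfUnity' 0).toEquiv).trans_le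
    (card_rootsOfUnity F 2)

theorem eq_one_of_mem_center [CharP F 2] (h : x ∈ center SL(2, F)) : x = 1 := by
  obtain ⟨r, h1, hr⟩ := Matrix.SpecialLinearGroup.mem_center_iff.1 h
  refine Subtype.ext ?_
  rw [← hr, show r = 1 by simpa [CharTwo.neg_eq] using h1, map_one]
  rfl

/-- Cayley–Hamilton. -/
theorem mul_self (x : SL(2, F)) : x.1 * x.1 = x.1.trace • x.1 - 1 := by
  have := x.det_coe
  rw [det_fin_two] at this
  ext i j
  fin_cases i <;> fin_cases j <;> simp [mul_apply, trace_fin_two] <;> first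
    | linear_combination -this
    | ring

theorem coe_inv (x : SL(2, F)) : (x⁻¹).1 = x.1.trace • (1 : Matrix (Fin 2) (Fin 2) F) - x.1 := by
  rw [Matrix.SpecialLinearGroup.coe_inv, adjugate_fin_two]
  ext i j
  fin_cases i <;> fin_cases j <;> simp [trace_fin_two]

theorem mem_center_of_sq_eq_one (h2 : (2 : F) ≠ 0) (h : x ^ 2 = 1) : x ∈ center SL(2, F) := by
  have h1 := mul_self x
  rw [← Matrix.SpecialLinearGroup.coe_mul, ← sq, h, eq_sub_iff_add_eq] at h1
  have h0 := congrFun (congrFun h1 0) 0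
  have h01 := congrFun (congrFun h1 0) 1
  have h10 := congrFun (congrFun h1 1) 0
  have h11 := congrFun (congrFun h1 1) 1
  simp at h0 h01 h10 h11
  have ht : x.1.trace ≠ 0 := fun h => h2 (by rw [h] at h0; linear_combination h0)
  exact mem_center_iff_scalar.2 (mem_range_scalar_two_iff.2 ⟨h01.resolve_left ht,
    h10.resolve_left ht, mul_left_cancel₀ ht (h0.symm.trans h11)⟩)

theorem commute_of_commute (hy : y ∉ center SL(2, F)) (ha : Commute a y) (hb : Commute b y) :
    Commute a b :=
  Subtype.ext (commute_of_commute_two (mem_center_iff_scalar.not.1 hy) (congrArg Subtype.val ha)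
    (congrArg Subtype.val hb))

theorem centralizer_eq (hx : x ∉ center SL(2, F)) (hy : y ∉ center SL(2, F)) (h : Commute x y) :
    centralizer ({x} : Set SL(2, F)) = centralizer {y} := by
  ext g
  simp only [mem_centralizer_singleton_iff]
  exact ⟨fun hg => commute_of_commute hx hg h.symm, fun hg => commute_of_commute hy hg h⟩

theorem pow_eq_one_of_trace (p : ℕ) [CharP F p] (h : x.1.trace ^ 2 = 4) : x ^ (2 * p) = 1 := by
  obtain ⟨M, hM⟩ : ∃ M, M = x.1.trace • x.1 - (1 + 1) := ⟨_, rfl⟩
  have h1 : M * M = 0 := by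
    rw [hM, sub_mul, mul_sub, mul_sub, smul_mul_smul_comm, mul_self, ← sq, h]
    simp only [mul_add, add_mul, mul_one, one_mul]
    module
  have h2 : ∀ n : ℕ, (1 + M) ^ n = 1 + (n : F) • M := fun n => by
    induction n with
    | zero => simp
    | succ n ih => rw [pow_succ, ih, add_mul, mul_add, mul_add, smul_mul_assoc, smul_mul_assoc, h1,
        Nat.cast_succ, add_smul]; simp; abel
  refine Subtype.ext ?_
  rw [Matrix.SpecialLinearGroup.coe_pow, pow_mul, sq, mul_self, show x.1.trace • x.1 - 1 = 1 + M by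
    rw [hM]; abel, h2, CharP.cast_eq_zero]
  simp

theorem notMem_center_of_trace (h : x.1.trace ^ 2 ≠ 4) : x ∉ center SL(2, F) := fun hx => by
  obtain ⟨r, h1, hr⟩ := Matrix.SpecialLinearGroup.mem_center_iff.1 hx
  refine h ?_
  rw [← hr, trace_fin_two]
  simp at h1 ⊢
  rcases h1 with rfl | rfl <;> norm_num

/-- A non-central element of order prime to the characteristic is regular semisimple. -/
theorem trace_sq_ne_four (h2 : (2 : F) ≠ 0) (p : ℕ) [CharP F p] (hx : x ∉ center SL(2, F))
    (h : (orderOf x).Coprime p) : x.1.trace ^ 2 ≠ 4 := fun ht =>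
  hx (mem_center_of_sq_eq_one h2 (orderOf_dvd_iff_pow_eq_one.1
    (h.dvd_of_dvd_mul_right (orderOf_dvd_of_pow_eq_one (pow_eq_one_of_trace p ht)))))

theorem eq_or_eq_inv (h2 : (2 : F) ≠ 0) (ht : a.1.trace ^ 2 ≠ 4) (hc : Commute b a)
    (h : IsConj a b) : b = a ∨ b = a⁻¹ := by
  obtain ⟨k, l, hb⟩ := exists_of_commute_two (a := b.1)
    (mem_center_iff_scalar.not.1 (notMem_center_of_trace ht)) (congrArg Subtype.val hc)
  obtain ⟨g, hg⟩ := isConj_iff.1 h
  have h1 : b.1.trace = a.1.trace := by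
    rw [← hg, Matrix.SpecialLinearGroup.coe_mul, trace_mul_comm, ← Matrix.SpecialLinearGroup.coe_mul,
      inv_mul_cancel_left]
  have h3 := b.det_coe
  have h4 := a.det_coe
  rw [hb] at h1 h3
  rw [det_fin_two] at h4
  simp [det_fin_two, trace_fin_two] at h1 h3 ht
  have h5 : l = 1 ∨ l = -1 := sq_eq_one_iff.1 (mul_left_cancel₀ (sub_ne_zero.2 ht) (by
    linear_combination -4 * (h3 - l ^ 2 * h4) + (2 * k + (1 + l) * (a.1 0 0 + a.1 1 1)) * h1))
  refine h5.imp (fun h => Subtype.ext ?_) fun h => Subtype.ext ?_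
  · rw [hb, h, show k = 0 from mul_left_cancel₀ h2 (by rw [h] at h1; linear_combination h1)]
    simp
  · rw [coe_inv, hb, h, show k = a.1.trace from mul_left_cancel₀ h2 (by
      rw [h] at h1; rw [trace_fin_two]; linear_combination h1)]
    simp [sub_eq_add_neg]

theorem card_centralizer [Fintype F] (h2 : (2 : F) ≠ 0) (ht : x.1.trace ^ 2 ≠ 4) :
    Nat.card (centralizer ({x} : Set SL(2, F))) = Fintype.card F - 1 ∨
      Nat.card (centralizer ({x} : Set SL(2, F))) = Fintype.card F + 1 := by
  have hx := mem_center_iff_scalar.not.1 (notMem_center_of_trace ht)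
  have h4 := x.det_coe
  rw [det_fin_two] at h4
  have h1 : ∀ k l : F, (k • (1 : Matrix (Fin 2) (Fin 2) F) + l • x.1).det =
      (k + l * x.1.trace / 2) ^ 2 - (x.1.trace ^ 2 - 4) * (l / 2) ^ 2 := fun k l => by
    simp [det_fin_two, trace_fin_two]
    field_simp
    linear_combination 4 * l ^ 2 * h4
  rw [← Nat.card_eq_of_bijective (α := {v : F × F // v.1 ^ 2 - (x.1.trace ^ 2 - 4) * v.2 ^ 2 = 1})
    (fun v => ⟨⟨(v.1.1 - v.1.2 * x.1.trace) • 1 + (2 * v.1.2) • x.1, by
      refine (h1 _ _).trans (Eq.trans ?_ v.2); field_simp; ring⟩, mem_centralizer_singleton_iff.2 (Subtype.ext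
        (((Commute.one_left _).smul_left _).add_left ((Commute.refl _).smul_left _)))⟩) ⟨?_, ?_⟩]
  · exact card_conic h2 (sub_ne_zero.2 ht)
  · rintro ⟨⟨X, Y⟩, _⟩ ⟨⟨X', Y'⟩, _⟩ h
    replace h := congrArg (·.1.1) h
    have h00 := congrFun (congrFun h 0) 0
    have h01 := congrFun (congrFun h 0) 1
    have h10 := congrFun (congrFun h 1) 0
    have h11 := congrFun (congrFun h 1) 1
    simp [h2] at h00 h01 h10 h11
    obtain rfl : Y = Y' := by
      by_contra h
      exact hx (mem_range_scalar_two_iff.2 ⟨h01.resolve_left h, h10.resolve_left h,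
        mul_left_cancel₀ (mul_ne_zero h2 (sub_ne_zero.2 h)) (by linear_combination h00 - h11)⟩)
    obtain rfl : X = X' := by simpa using h00
    rfl
  · rintro ⟨g, hg⟩
    obtain ⟨k, l, hb⟩ := exists_of_commute_two (a := g.1) hx
      (congrArg Subtype.val (mem_centralizer_singleton_iff (k := g).1 hg))
    refine ⟨⟨(k + l * x.1.trace / 2, l / 2), by rw [← h1, ← hb, g.det_coe]⟩,
      Subtype.ext (Subtype.ext ?_)⟩
    simp only [hb]
    congr 2
    · ring
    · field_simp

/-- Subgroups of `SL(2, F)` have at most one involution. -/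
theorem pRankLE (h2 : (2 : F) ≠ 0) [Finite F] (H : Subgroup SL(2, F)) : PRankLE 2 1 H :=
  fun A _ hA => (card_subtype H A).ge.trans ((card_le_of_le (by
    rintro _ ⟨a, ha, rfl⟩
    exact mem_center_of_sq_eq_one h2 (congrArg Subtype.val (hA a ha)))).trans card_center_le)

end SL2

end Cfsg.Agent.Lin
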