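import Mathlib

/-!
The action of `GL(ι, F)` on the projective space: coordinate points, fixed points of diagonal
matrices, the number of points modulo a prime.
-/

set_option autoImplicit false

open scoped LinearAlgebra.Projectivization Matrix

namespace Cfsg.Agent.Lin

variable {F : Type*} [Field F] {ι : Type*} [Fintype ι] [DecidableEq ι]

theorem mulVec_ne_zero (g : GL ι F) {v : ι → F} (hv : v ≠ 0) : (g : Matrix ι ι F) *ᵥ v ≠ 0 :=
  (smul_ne_zero_iff_ne g).2 hv

theorem smul_mk (g : GL ι F) {v : ι → F} (hv : v ≠ 0) :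
    g • Projectivization.mk F v hv =
      Projectivization.mk F ((g : Matrix ι ι F) *ᵥ v) (mulVec_ne_zero g hv) := rfl

theorem smul_mk_eq_mk_iff (g : GL ι F) {v w : ι → F} (hv : v ≠ 0) (hw : w ≠ 0) :
    g • Projectivization.mk F v hv = Projectivization.mk F w hw ↔
      ∃ c : F, (g : Matrix ι ι F) *ᵥ v = c • w := by
  rw [smul_mk, Projectivization.mk_eq_mk_iff']
  exact ⟨fun ⟨c, hc⟩ => ⟨c, hc.symm⟩, fun ⟨c, hc⟩ => ⟨c, hc.symm⟩⟩

/-- The `i`-th coordinate point of the projective space. -/
noncomputable def pt (F : Type*) [Field F] {ι : Type*} [DecidableEq ι] (i : ι) : ℙ F (ι → F) :=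
  Projectivization.mk F (Pi.single i 1) (by simp)

omit [Fintype ι] in
theorem pt_injective : Function.Injective (pt F : ι → ℙ F (ι → F)) := by
  intro i j h
  rw [pt, pt, Projectivization.mk_eq_mk_iff'] at h
  obtain ⟨c, hc⟩ := h
  by_contra hij
  have := congrFun hc i
  simp [hij] at this

theorem smul_pt_eq_pt_iff (g : GL ι F) (i k : ι) :
    g • pt F i = pt F k ↔ ∀ j, j ≠ k → (g : Matrix ι ι F) j i = 0 := by
  rw [pt, pt, smul_mk_eq_mk_iff]
  constructor
  · rintro ⟨c, hc⟩ j hj
    have := congrFun hc j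
    simpa [hj] using this
  · intro h
    refine ⟨(g : Matrix ι ι F) k i, ?_⟩
    funext j
    by_cases hj : j = k
    · subst hj; simp
    · simp [hj, h j hj]

/-- A diagonal matrix with distinct diagonal entries fixes only the coordinate points. -/
theorem exists_eq_pt_of_diagonal {g : GL ι F} {d : ι → F}
    (hg : (g : Matrix ι ι F) = Matrix.diagonal d) (hd : Function.Injective d)
    {x : ℙ F (ι → F)} (hx : g • x = x) : ∃ i, x = pt F i := by
  induction x using Projectivization.ind with
  | _ v hv =>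
  rw [smul_mk_eq_mk_iff, hg] at hx
  obtain ⟨c, hc⟩ := hx
  obtain ⟨i, hi⟩ := Function.ne_iff.1 hv
  refine ⟨i, ?_⟩
  rw [pt, Projectivization.mk_eq_mk_iff']
  refine ⟨v i, ?_⟩
  have h1 : ∀ j, d j * v j = c * v j := fun j => by
    simpa [Matrix.mulVec_diagonal] using congrFun hc j
  have h2 : d i = c := mul_right_cancel₀ hi (h1 i)
  funext j
  by_cases hj : j = i
  · subst hj; simp
  · have h3 : v j = 0 := by
      by_contra h3
      exact hj (hd ((mul_right_cancel₀ h3 (h1 j)).trans h2.symm))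
    simp [hj, h3]

omit [Fintype ι] in
/-- A matrix commuting with a diagonal matrix. -/
theorem apply_eq_zero_of_commute_diagonal [Fintype ι] {g : Matrix ι ι F} {d : ι → F}
    (h : g * Matrix.diagonal d = Matrix.diagonal d * g) {i j : ι} (hij : d i ≠ d j) :
    g i j = 0 := by
  have := congrFun (congrFun h i) j
  rw [Matrix.mul_diagonal, Matrix.diagonal_mul, mul_comm (d i)] at this
  by_contra h0
  exact hij (mul_left_cancel₀ h0 this).symm

theorem card_proj [Finite F] :
    Nat.card (ℙ F (ι → F)) = ∑ i ∈ Finset.range (Fintype.card ι), Nat.card F ^ i :=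
  Projectivization.card_of_finrank F (ι → F) (by simp)

theorem card_proj_modEq [Finite F] {r : ℕ} (hr : r ∣ Nat.card F - 1) :
    Nat.card (ℙ F (ι → F)) ≡ Fintype.card ι [MOD r] := by
  rw [card_proj]
  have h1 : Nat.card F ≡ 1 [MOD r] :=
    ((Nat.modEq_iff_dvd' (Finite.one_lt_card (α := F)).le).2 hr).symm
  induction Fintype.card ι with
  | zero => simp [Nat.ModEq]
  | succ n ih =>
    rw [Finset.sum_range_succ]
    exact ih.add (by simpa using h1.pow n)

theorem not_dvd_card_proj [Finite F] [Nonempty ι] {p : ℕ} (hp : p.Prime) [CharP F p] :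
    ¬ p ∣ Nat.card (ℙ F (ι → F)) := by
  have := Fintype.ofFinite F
  obtain ⟨n, -, hn⟩ := FiniteField.card F p
  rw [card_proj]
  obtain ⟨k, hk⟩ : ∃ k, Fintype.card ι = k + 1 :=
    Nat.exists_eq_succ_of_ne_zero Fintype.card_ne_zero
  rw [hk, Finset.sum_range_succ', pow_zero]
  intro h
  have h2 : p ∣ ∑ i ∈ Finset.range k, Nat.card F ^ (i + 1) := by
    apply Finset.dvd_sum
    intro i _
    rw [Nat.card_eq_fintype_card, hn]
    exact dvd_pow (dvd_pow_self p n.ne_zero) (Nat.succ_ne_zero i)
  exact hp.one_lt.ne' (Nat.dvd_one.1 ((Nat.dvd_add_right h2).1 h))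

end Cfsg.Agent.Lin
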